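/-
Extraspecial 2-groups: the commutator pairing, and the centralizer of a subgroup containing the centre.
-/
import Mathlib
import Cfsg.Prelude.Def_Transfer

set_option autoImplicit false

namespace Cfsg.Agent.Lib.ExtraTwoQ

open Cfsg
open scoped Pointwise

variable {Q : Type*} [Group Q]

theorem center_eq_pair [Finite Q] (hQ : IsExtraspecial 2 Q) {z x : Q} (hz : z ∈ Subgroup.center Q) (hz1 : z ≠ 1)
    (hx : x ∈ Subgroup.center Q) : x = 1 ∨ x = z := by
  classical
  by_contra! h
  haveI : Fintype (Subgroup.center Q) := Fintype.ofFinite _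
  have hc := hQ.2
  have h3 : ({1, ⟨z, hz⟩, ⟨x, hx⟩} : Finset (Subgroup.center Q)).card = 3 := by
    rw [Finset.card_eq_three]
    exact ⟨1, ⟨z, hz⟩, ⟨x, hx⟩, fun e => hz1 (congrArg Subtype.val e).symm,
      fun e => h.1 (congrArg Subtype.val e).symm, fun e => h.2 (congrArg Subtype.val e).symm, rfl⟩
  have := Finset.card_le_univ ({1, ⟨z, hz⟩, ⟨x, hx⟩} : Finset (Subgroup.center Q))
  rw [h3, ← Nat.card_eq_fintype_card, hc] at this
  omega

theorem exists_center_ne_one (hQ : IsExtraspecial 2 Q) : ∃ z ∈ Subgroup.center Q, z ≠ 1 := by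
  by_contra! h
  have : Subgroup.center Q = ⊥ := (Subgroup.eq_bot_iff_forall _).mpr h
  have hc := hQ.2
  rw [this, Subgroup.card_bot] at hc
  omega

theorem comm_mem_center (hQ : IsExtraspecial 2 Q) (x y : Q) : x * y * x⁻¹ * y⁻¹ ∈ Subgroup.center Q := by
  rw [← hQ.1.2.2, commutator_def]
  exact Subgroup.commutator_mem_commutator (Subgroup.mem_top x) (Subgroup.mem_top y)

theorem center_sq_eq_one (hQ : IsExtraspecial 2 Q) {z : Q} (hz : z ∈ Subgroup.center Q) : z ^ 2 = 1 := by
  have h : (⟨z, hz⟩ : Subgroup.center Q) ^ 2 = 1 := by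
    conv_lhs => rw [← hQ.2]
    exact pow_card_eq_one'
  exact congrArg Subtype.val h

theorem sq_mem_center (hQ : IsExtraspecial 2 Q) (x : Q) : x ^ 2 ∈ Subgroup.center Q := by
  rw [Subgroup.mem_center_iff]
  intro y
  have hc := comm_mem_center hQ x y
  have hcx := Subgroup.mem_center_iff.mp hc x
  have hc2 := center_sq_eq_one hQ hc
  have h : x ^ 2 * y * (x ^ 2)⁻¹ * y⁻¹ = (x * y * x⁻¹ * y⁻¹) ^ 2 := by
    calc x ^ 2 * y * (x ^ 2)⁻¹ * y⁻¹ = (x * (x * y * x⁻¹ * y⁻¹) * x⁻¹) * (x * y * x⁻¹ * y⁻¹) := by simp [sq, mul_assoc]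
      _ = (x * y * x⁻¹ * y⁻¹) * (x * y * x⁻¹ * y⁻¹) := by rw [hcx, mul_inv_cancel_right]
      _ = (x * y * x⁻¹ * y⁻¹) ^ 2 := (sq _).symm
  rw [hc2, mul_inv_eq_one, mul_inv_eq_iff_eq_mul] at h
  exact h.symm

theorem normal_of_center_le (hQ : IsExtraspecial 2 Q) {H : Subgroup Q} (h : Subgroup.center Q ≤ H) : H.Normal := by
  refine ⟨fun x hx g => ?_⟩
  have := H.mul_mem (h (comm_mem_center hQ g x)) hx
  simpa [mul_assoc] using this

theorem card_sup_zpowers_le [Finite Q] (hQ : IsExtraspecial 2 Q) {H : Subgroup Q} (h : Subgroup.center Q ≤ H)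
    (x : Q) : Nat.card ↥(H ⊔ Subgroup.zpowers x) ≤ 2 * Nat.card ↥H := by
  haveI := normal_of_center_le hQ h
  classical
  let f : Bool × ↥H → ↥(H ⊔ Subgroup.zpowers x) := fun q =>
    ⟨(q.2 : Q) * (if q.1 then x else 1), by
      refine Subgroup.mul_mem _ (Subgroup.mem_sup_left q.2.2) ?_
      split
      · exact Subgroup.mem_sup_right (Subgroup.mem_zpowers x)
      · exact Subgroup.one_mem _⟩
  have hf : Function.Surjective f := by
    rintro ⟨y, hy⟩
    obtain ⟨u, hu, w, hw, rfl⟩ : y ∈ (H : Set Q) * (Subgroup.zpowers x : Set Q) := by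
      rw [← Subgroup.normal_mul]; exact hy
    obtain ⟨n, rfl⟩ := Subgroup.mem_zpowers_iff.mp hw
    rcases Int.even_or_odd n with ⟨k, rfl⟩ | ⟨k, rfl⟩
    · refine ⟨(false, ⟨u * (x ^ 2) ^ k, H.mul_mem hu (H.zpow_mem (h (sq_mem_center hQ x)) k)⟩), Subtype.ext ?_⟩
      show u * (x ^ 2) ^ k * 1 = u * x ^ (k + k)
      rw [mul_one, ← zpow_natCast x 2, ← zpow_mul]
      exact congrArg (u * x ^ ·) (by push_cast; ring)
    · refine ⟨(true, ⟨u * (x ^ 2) ^ k, H.mul_mem hu (H.zpow_mem (h (sq_mem_center hQ x)) k)⟩), Subtype.ext ?_⟩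
      show u * (x ^ 2) ^ k * x = u * x ^ (2 * k + 1)
      rw [zpow_add_one, ← zpow_natCast x 2, ← zpow_mul, mul_assoc]; norm_num
  have := Nat.card_le_card_of_surjective f hf
  simpa [Nat.card_prod] using this

theorem card_centralizer_le_double [Finite Q] (hQ : IsExtraspecial 2 Q) (H : Subgroup Q) (x : Q) :
    Nat.card ↥(Subgroup.centralizer (H : Set Q)) ≤
      2 * Nat.card ↥(Subgroup.centralizer ((H ⊔ Subgroup.zpowers x : Subgroup Q) : Set Q)) := by
  classical
  set K : Subgroup Q := Subgroup.centralizer ((H ⊔ Subgroup.zpowers x : Subgroup Q) : Set Q) with hK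
  have hmem : ∀ u ∈ Subgroup.centralizer (H : Set Q), Commute u x → u ∈ K := by
    intro u hu hux
    rw [hK, Subgroup.mem_centralizer_iff]
    intro y hy
    have hle : H ⊔ Subgroup.zpowers x ≤ Subgroup.centralizer ({u} : Set Q) :=
      sup_le (fun a ha => Subgroup.mem_centralizer_singleton_iff.mpr (Subgroup.mem_centralizer_iff.mp hu a ha))
        (Subgroup.zpowers_le.mpr (Subgroup.mem_centralizer_singleton_iff.mpr hux.eq.symm))
    exact Subgroup.mem_centralizer_singleton_iff.mp (hle hy)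
  by_cases hall : ∀ u ∈ Subgroup.centralizer (H : Set Q), Commute u x
  · have : Subgroup.centralizer (H : Set Q) ≤ K := fun u hu => hmem u hu (hall u hu)
    have := Subgroup.card_le_of_le this
    omega
  push Not at hall
  obtain ⟨u₀, hu₀, hne⟩ := hall
  obtain ⟨z, hz, hz1⟩ := exists_center_ne_one hQ
  have hnc : ∀ u : Q, ¬ Commute u x → u * x * u⁻¹ = z * x := by
    intro u hu
    rcases center_eq_pair hQ hz hz1 (comm_mem_center hQ u x) with h | h
    · exact absurd (mul_inv_eq_iff_eq_mul.mp (mul_inv_eq_one.mp h)) hu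
    · exact mul_inv_eq_iff_eq_mul.mp h
  let f : Bool × ↥K → Q := fun q => (if q.1 then u₀ else 1) * q.2
  let emb : ↥(Subgroup.centralizer (H : Set Q)) → Bool × ↥K := fun u =>
    if hc : Commute (u : Q) x then (false, ⟨u, hmem u u.2 hc⟩)
    else (true, ⟨u₀⁻¹ * u, by
      refine hmem _ (Subgroup.mul_mem _ (Subgroup.inv_mem _ hu₀) u.2) ?_
      have h1 := hnc _ hc
      have h2 := hnc _ hne
      show u₀⁻¹ * (u : Q) * x = x * (u₀⁻¹ * u)
      calc u₀⁻¹ * (u : Q) * x = u₀⁻¹ * ((u : Q) * x * (u : Q)⁻¹) * u := by group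
        _ = u₀⁻¹ * (u₀ * x * u₀⁻¹) * u := by rw [h1, h2]
        _ = x * (u₀⁻¹ * u) := by group⟩)
  have hinj : Function.Injective (fun u => f (emb u)) := by
    intro a b hab
    have hfe : ∀ u, f (emb u) = (u : Q) := by
      intro u
      simp only [emb]
      split <;> simp [f]
    exact Subtype.ext (by simpa [hfe] using hab)
  have := Nat.card_le_card_of_injective emb fun a b h => hinj (congrArg f h)
  simpa [Nat.card_prod] using this

theorem card_centralizer_mul_card_mono [Finite Q] (hQ : IsExtraspecial 2 Q) {H : Subgroup Q}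
    (hH : Subgroup.center Q ≤ H) (S : Finset Q) :
    Nat.card ↥(Subgroup.centralizer (H : Set Q)) * Nat.card ↥H ≤
      Nat.card ↥(Subgroup.centralizer ((H ⊔ Subgroup.closure (S : Set Q) : Subgroup Q) : Set Q)) *
        Nat.card ↥(H ⊔ Subgroup.closure (S : Set Q)) := by
  classical
  induction S using Finset.induction_on with
  | empty => simp
  | @insert x S hx ih =>
    set K : Subgroup Q := H ⊔ Subgroup.closure (S : Set Q) with hK
    have heq : H ⊔ Subgroup.closure ((insert x S : Finset Q) : Set Q) = K ⊔ Subgroup.zpowers x := by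
      rw [Finset.coe_insert, Set.insert_eq, Subgroup.closure_union, ← Subgroup.zpowers_eq_closure, hK,
        sup_assoc, sup_comm (Subgroup.zpowers x)]
    rw [heq]
    refine ih.trans ?_
    by_cases hxK : x ∈ K
    · rw [sup_eq_left.mpr (Subgroup.zpowers_le.mpr hxK)]
    · have h1 := card_centralizer_le_double hQ K x
      have h2 : 2 * Nat.card ↥K ≤ Nat.card ↥(K ⊔ Subgroup.zpowers x) := by
        have hlt : K < K ⊔ Subgroup.zpowers x :=
          lt_of_le_of_ne le_sup_left (fun h => hxK (h ▸ Subgroup.mem_sup_right (Subgroup.mem_zpowers x)))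
        obtain ⟨c, hc⟩ := Subgroup.card_dvd_of_le hlt.le
        have hc2 : 2 ≤ c := by
          by_contra hlt2
          interval_cases c
          · have := Nat.card_pos (α := ↥(K ⊔ Subgroup.zpowers x)); omega
          · exact hlt.ne (Subgroup.eq_of_le_of_card_ge hlt.le (by omega))
        rw [hc, mul_comm 2]
        exact Nat.mul_le_mul_left _ hc2
      calc _ ≤ 2 * Nat.card ↥(Subgroup.centralizer ((K ⊔ Subgroup.zpowers x : Subgroup Q) : Set Q)) * Nat.card ↥K :=
            Nat.mul_le_mul_right _ h1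
        _ = Nat.card ↥(Subgroup.centralizer ((K ⊔ Subgroup.zpowers x : Subgroup Q) : Set Q)) * (2 * Nat.card ↥K) := by ring
        _ ≤ _ := Nat.mul_le_mul_left _ h2

/-- In an extraspecial 2-group, `|C(H)| |H| = 2 |Q|` for every subgroup `H` containing the centre. -/
theorem card_centralizer_mul_card [Finite Q] (hQ : IsExtraspecial 2 Q) {H : Subgroup Q}
    (hH : Subgroup.center Q ≤ H) :
    Nat.card ↥(Subgroup.centralizer (H : Set Q)) * Nat.card ↥H = 2 * Nat.card Q := by
  classical
  haveI : Fintype Q := Fintype.ofFinite Q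
  have hZ : Subgroup.centralizer ((Subgroup.center Q : Subgroup Q) : Set Q) = ⊤ :=
    Subgroup.centralizer_eq_top_iff_subset.mpr le_rfl
  apply le_antisymm
  · have h := card_centralizer_mul_card_mono hQ hH Finset.univ
    rw [Finset.coe_univ, Subgroup.closure_univ, sup_top_eq, Subgroup.coe_top, Subgroup.centralizer_univ,
      hQ.2, Subgroup.card_top] at h
    exact h
  · have h := card_centralizer_mul_card_mono hQ (le_refl (Subgroup.center Q)) (H : Set Q).toFinset
    rw [Set.coe_toFinset, Subgroup.closure_eq, sup_eq_right.mpr hH, hZ, Subgroup.card_top, hQ.2] at h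
    rw [mul_comm 2]
    exact h

theorem centralizer_centralizer [Finite Q] (hQ : IsExtraspecial 2 Q) {H : Subgroup Q}
    (hH : Subgroup.center Q ≤ H) :
    Subgroup.centralizer ((Subgroup.centralizer (H : Set Q) : Subgroup Q) : Set Q) = H := by
  have hle : H ≤ Subgroup.centralizer ((Subgroup.centralizer (H : Set Q) : Subgroup Q) : Set Q) :=
    Subgroup.le_centralizer_iff.mp le_rfl
  have h1 := card_centralizer_mul_card hQ hH
  have h2 := card_centralizer_mul_card hQ (Subgroup.center_le_centralizer (H : Set Q))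
  refine (Subgroup.eq_of_le_of_card_ge hle (le_of_eq ?_)).symm
  rw [← h1, mul_comm (Nat.card ↥(Subgroup.centralizer (H : Set Q)))] at h2
  exact Nat.eq_of_mul_eq_mul_right Nat.card_pos h2

end Cfsg.Agent.Lib.ExtraTwoQ
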